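import Cfsg.Agent.M4.GA

/-! From the action on `2⁶` to the properties `GA`. -/

set_option autoImplicit false
set_option linter.unusedVariables false
set_option linter.unusedSectionVars false

namespace M4

open Cfsg Subgroup FT H4 H5 GW L

universe u

variable {G : Type u} [Group G] [Finite G] {A B P S : Subgroup G} {s t : G}
  {V X : Type*} [CommGroup V] [Group X] [MulDistribMulAction X V] [Finite V] [Finite X]
  {D : Subgroup X} {z u u' : X} {v v' : V} {ι : V →* G} {π : Nor A →* X}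

theorem XD.ab4 (h : XD D z u u' v v') {Y : Subgroup X} (hY : IsPGroup 2 Y)
    (c : IsMulCommutative Y) : Nat.card Y ≤ 4 := by
  obtain ⟨g, -, e⟩ := h.syl.exists_conj_le hY le_top
  have d := card_dvd_of_le e
  by_contra n
  rw [h.c8, show Nat.card _ = _ from card_conjS g Y] at d
  have e1 : conjS g Y = D := eq_of_le_of_card_ge e (by
    rw [card_conjS, h.c8]
    have := Nat.le_of_dvd (by norm_num) d
    generalize Nat.card Y = m at *
    rw [not_le] at n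
    interval_cases m <;> simp_all (config := {decide := true}))
  obtain ⟨a, ha, e2⟩ := e1.ge h.h1.uD
  obtain ⟨b, hb, e3⟩ := e1.ge h.h2.uD
  have := h.h1.cj
  rw [← e2, ← e3, ← map_mul, setLike_mul_comm hb ha, map_mul,
    mul_inv_cancel_right, e2] at this
  exact ine h.oz (by simpa using this.symm)

/-- the action of `N(A)` on `A` -/
structure GX (A : Subgroup G) (ι : V →* G) (π : Nor A →* X) (D : Subgroup X) (z u u' : X)
    (v v' : V) : Prop extends XD D z u u' v v' where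
  inj : Function.Injective ι
  rg : ι.range = A
  sj : Function.Surjective π
  eq : ∀ (n : Nor A) (a : V), ι (π n • a) = n * ι a * (n : G)⁻¹
  k2 : ∀ s ∈ Cen A, PElt 2 s → s ∈ A

namespace GX

variable (h : GX A ι π D z u u' v v')
include h

theorem mem (a : V) : ι a ∈ A := h.rg ▸ ⟨a, rfl⟩

theorem ex {a : G} (ha : a ∈ A) : ∃ b, ι b = a := h.rg.ge ha

theorem elA : ∀ a ∈ A, a * a = 1 := fun a ha => by
  obtain ⟨a, rfl⟩ := h.ex ha; rw [← map_mul, h.el, map_one]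

theorem fx {n : Nor A} {a : V} : a ∈ Fx V (π n) ↔ ι a ∈ Cen1 (n : G) := by
  rw [mem_Fx, ← h.inj.eq_iff, h.eq, c1s, c1']

theorem hk : π.ker = (Cen A).subgroupOf (Nor A) := by
  ext n
  rw [mem_subgroupOf, cen_iff_le]
  refine ⟨fun e a ha => ?_, fun e => h.fa _ fun a => mem_Fx.1 (h.fx.2 (e (h.mem a)))⟩
  obtain ⟨a, rfl⟩ := h.ex ha
  exact h.fx.1 (mem_Fx.2 (by rw [MonoidHom.mem_ker.1 e, one_smul]))

theorem cd (Y : Subgroup V) {Z : Subgroup G} (h1 : Z ≤ A) (e : ∀ a, a ∈ Y ↔ ι a ∈ Z) :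
    Nat.card Z = Nat.card Y := by
  rw [← card_map_of_injective h.inj]
  congr 2
  refine le_antisymm (fun a ha => ?_) (map_le_iff_le_comap.2 fun a ha => (e a).1 ha)
  obtain ⟨a, rfl⟩ := h.ex (h1 ha)
  exact ⟨a, (e a).2 ha, rfl⟩

theorem cd1 (n : Nor A) : Nat.card ↥(A ⊓ Cen1 (n : G)) = Nat.card (Fx V (π n)) :=
  h.cd _ inf_le_left fun a => h.fx.trans (and_iff_right (h.mem a)).symm

theorem ne1 {n : Nor A} (p : PElt 2 (n : G)) (e : (n : G) ∉ A) : π n ≠ 1 :=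
  fun c => e (h.k2 _ ((map_eq_one_iff_of_ker h.hk).1 c) p)

theorem eq1 {n : Nor A} (e : (n : G) ∈ A) : π n = 1 :=
  (map_eq_one_iff_of_ker h.hk).2 (cen.2 fun a ha => el_comm h.elA e ha)

theorem o2 (tn : t ∈ Nor A) (tA : t ∉ A) (t2 : t * t ∈ A) : orderOf (π ⟨t, tn⟩) = 2 :=
  W.o2 (by rw [← map_mul]; exact h.eq1 t2) (h.ne1 ⟨2, by
    rw [← h.elA _ t2, ← sq, ← sq, ← pow_mul]; rfl⟩ tA)

theorem c16' (tn : t ∈ Nor A) (tA : t ∉ A) (t2 : t * t ∈ A) : Nat.card ↥(A ⊓ Cen1 t) = 16 :=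
  (h.cd1 ⟨t, tn⟩).trans (h.c16 (h.o2 tn tA t2))

theorem c8' (hP : IsPGroup 2 P) (n : P ≤ Nor A) (hs : s ∈ P) (ht : t ∈ P) (sA : s ∉ A) (tA : t ∉ A)
    (st : s * t⁻¹ ∉ A) : Nat.card ↥(A ⊓ Cen1 s ⊓ Cen1 t) ≤ 8 ∧
      (8 ≤ Nat.card ↥(A ⊓ Cen1 s ⊓ Cen1 t) → t * t ∈ A → ∀ a ∈ A, t * a * t⁻¹ * a⁻¹ ∈ Cen1 s) := by
  obtain ⟨e1, e2⟩ := h.m9' (isPGroup_im hP) (mem_im_of_mem (n hs) hs) (mem_im_of_mem (n ht) ht)
    (h.ne1 (PElt_of_mem hP hs) sA) (h.ne1 (PElt_of_mem hP ht) tA) fun e =>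
      h.ne1 (n := ⟨s, n hs⟩ * (⟨t, n ht⟩ : Nor A)⁻¹) (PElt_of_mem hP (mul_mem hs (inv_mem ht))) st
        (by rw [map_mul, map_inv, e, mul_inv_cancel])
  rw [h.cd (Fx V (π ⟨s, n hs⟩) ⊓ Fx V (π ⟨t, n ht⟩)) (inf_le_left.trans inf_le_left) fun a => by
    simp only [mem_inf, h.fx, h.mem]; simp]
  refine ⟨e1, fun c t2 a ha => ?_⟩
  obtain ⟨a, rfl⟩ := h.ex ha
  have := h.fx.1 (e2 (le_antisymm e1 c) (by rw [← map_mul]; exact h.eq1 t2) a)
  rwa [map_mul, map_inv, h.eq] at this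

theorem ab (n : B ≤ Nor A) (hB : IsPGroup 2 B) (c : IsMulCommutative B) :
    Nat.card B ≤ 4 * Nat.card ↥(B ⊓ A) := by
  rw [card_eq_card_im_mul h.hk n]
  exact Nat.mul_le_mul (h.ab4 (isPGroup_im hB) (isMulCommutative_im c))
    (card_le_of_le fun b hb => ⟨hb.1, h.k2 b hb.2 (PElt_of_mem hB hb.1)⟩)

theorem c64 : Nat.card A = 64 := (h.cd ⊤ le_rfl fun a => by simp [h.mem]).trans (card_top.trans h.card)

theorem uniq (n : B ≤ Nor A) (c : IsMulCommutative B) (e : Nat.card B = 64) : B = A := by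
  have hB : IsPGroup 2 B := IsPGroup.of_card (n := 6) e
  refine eq_of_le_of_card_ge (fun s hs => by_contra fun sA => ?_) (by rw [e, h.c64])
  have e1 := h.ab n hB c
  have l : ∀ s ∈ B, B ⊓ A ≤ Cen1 s := fun s hs b hb =>
    c1.2 (setLike_mul_comm hb.1 hs)
  have k : ∀ t ∈ B, t ∉ A → t * s⁻¹ ∉ A → False := fun t ht e2 e3 => by
    have := (card_le_of_le (le_inf (le_inf inf_le_right (l t ht)) (l s hs))).trans
      (h.c8' hB n ht hs e2 sA e3).1
    omega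
  by_cases s2 : s * s ∈ A
  · have := (card_le_of_le (le_inf inf_le_right (l s hs))).trans (h.c16' (n hs) sA s2).le
    obtain ⟨t, ht, e2, e3⟩ := two_out (X := B) (Y := B ⊓ A) (by omega) s
    exact k t ht (fun e => e2 ⟨ht, e⟩) fun e => e3 (mem_inf.2 ⟨mul_mem ht (inv_mem hs), e⟩)
  · exact k _ (mul_mem hs hs) s2 (by simpa using sA)

theorem ga (hS : IsSylowOf 2 S ⊤) (n : S ≤ Nor A) : GA A := by
  have cm := (el_ea h.elA).1
  refine ⟨h.elA, h.c64, ⟨el_two h.elA, ?_⟩, fun t => h.c16', ?_,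
    fun B n e => h.ab n (el_two e) (el_ea e).1, fun t tn tA t2 y yn e o => ?_, ?_,
    fun y yn o c => ?_⟩
  rotate_left
  rotate_left
  · refine (map_eq_one_iff_of_ker h.hk (x := ⟨y, yn⟩)).1 (h.g2 (h.o2 tn tA t2)
      (o.of_dvd_nat (by rw [← orderOf_mk y yn]; exact orderOf_map_dvd _ _)) fun b hb => ?_)
    rw [h.fx, h.eq]
    exact (cmem e ⟨h.mem b, h.fx.1 hb⟩).2
  · rw [relIndex, ← h.hk, index_ker, MonoidHom.range_eq_top.2 h.sj, card_top]
    exact h.main.1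
  · exact (h.cd1 ⟨y, yn⟩).le.trans (h.main.2 _
      (o.of_dvd_nat (by rw [← orderOf_mk y yn]; exact orderOf_map_dvd _ _))
      fun e => c ((map_eq_one_iff_of_ker h.hk).1 e))
  all_goals
    have k : ∀ g : G, conjS g A ≤ S → g ∈ Nor A := fun g e => mem_normalizer_iff_conjS.2
      (h.uniq (e.trans n) inferInstance ((card_conjS g A).trans h.c64))
    have w : ∀ P : Subgroup G, IsPGroup 2 P → P ≤ ⊤ → A ≤ P → ∀ g ∈ (⊤ : Subgroup G),
        conjS g A ≤ P → g ∈ Nor A := fun P hP _ h1 g _ e => by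
      obtain ⟨c, -, e1⟩ := hS.exists_conj_le hP le_top
      exact mem_of_eq (mul_mem (inv_mem (k c ((conjS_mono c h1).trans e1))) (k (c * g)
        ((conjS_conjS c g A).ge.trans ((conjS_mono c e).trans e1)))) (by group)
  · exact w
  · exact fun P hP h1 s hs t ht =>
      h.c8' hP (WC.nor ⟨el_two h.elA, w⟩ hP le_top h1) hs ht

end GX

end M4
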