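import Cfsg.Agent.M4.Mod
import Cfsg.Agent.H2.M24

/-! The Sylow 2-subgroup of `M₂₄`. -/

set_option autoImplicit false
set_option linter.unusedVariables false
set_option linter.unusedSectionVars false

namespace M4

open Cfsg Subgroup FT H4 H5 GW L H2

def tb1 : ℕ := 0x34dcd7da8995d022817165603504e493a6bbd53433ca2401b065a23504e4748d0add059da824822b63da3504e499a51b3ca875522a020d65d63504e4bd6c893a11799a2580a964e83504e47daa534e30bc9626811463923504e4b3ef4999ababa028812564903504e4adde97496db4e2280288618a3504e433a6bbd93493d00289b1256070a86c94dcd7d68935ca04097025a270a86c71a51b5ca89d68048a0b23da70a86c9c8d0abd0575920a0a2d25d670a86cbdaa533a307c9a05890924e870a86c7d6c894e11b9960688b4239270a86cb5de97196dace0088a85249070a86cabef49c9abb3a2080928218a70a86c748cd7d9059de84485711d60c3814299a4bbd4a873d24a05b01da2c3814234dd0ade89959042862b1bdac3814293a71b3d34354a44060d1dd6c38142b3ee8939aba9a04884a91ce8c38142adde534d6db4a24805141b92c38142bd6d499a117b9a4585251c90c381427daa974a30bcd6468688198ac3814271a4bbd8a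89be81491b11560a01d839c8cd7d50575d21a117015a2a01d8333a71b5d34955012920b13daa01d8394dd0abe89358a14122d15d6a01d83b5de53396daca018910914e8a01d83abee894dabb1a21810b41392a01d83bdaa971a307cda1592851490a01d837d6d49ca11bb96169128118aa01d8393a6d7d93435ca740d710d6002304a34dcbbd68993d0728db00da202304a99a50adca875927a0e2b0bda02304a748d1b3d059d68748e0d0dd602304a7daa893a30b996768ca90ce802304abd6c534e117c9a758d140b9202304aaddf49996db3a2780d250c9002304ab3ee9749abace0788e88098a02304a94dcbbda8933ca341db1556026100133a6d7d53495d0329d7055a22610019c8d1b5d0575523a1e0b53da26100171a50abca89da8349e2d55d62610017d6c533a11bc96369d0954e8261001bdaa894e30799a359cb45392261001abee9719abb4e2381e855490261001b5df49c96daba0389d28518a26100199a4d7d8a875d2aa31710560110c87748cbbd5059be8a4b1b005a2110c8793a70add34358aa4322b03da110c8734dd1b3e899550a2b20d05d6110c87adde89396db1a2a830a904e8110c87b3ee534dabaca0a8b1140392110c877dab499a30bb96a6b1250490110c87bd6c974a117cdaa5b288018a110c879c8cbbd90573d2ca29b13d6041882071a4d7d4a89de8c4a9703da241882094dd1b5e89354ac42a0b3bda41882033a70abd349590c2aa2d3dd6418820abee5339abb4a2c829093ce8418820b5de894d6da9a0c8a8b43b924188207d6c971a11bcd6c6aa853c90418820bdab49ca307b9ac5a928398a418820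
def tb2 : ℕ := 0xbc6b3a4ad06b9e058d28214c75044cbc6149a2d57b9aa5b132114c101c83bda149ca356a5e259dc8514c323001bdab3a22307a5a4585d2014cc10d475da13a4a357b9a7b8928614c00a8645dab49a2306b9e1b9132194ca381825c6b49cad07a5a3b81c8094c2610ea5c613a22d56a5ecba9d2394c4188205da149a2357a5a0b8dd2218a75044c5dab3a4a306a5eabb1c8118a101c835c6b3a22d07b9a2b9d32518a3230015c6149cad56b9e4b8528018ac10d47bc6b49a2d06a5e7589d2618a00a864bc613a4ad57a5a1591c8198aa38182bda13a22356b9e358132098a2610eabdab49ca307b9ac5a928398a418820

/-- weight of a bit -/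
def wt (b : Bool) (n : ℕ) : ℕ := Bool.rec 0 n b

/-- the code of the permutation -/
def cU (x : U5) : ℕ :=
  force ((tb1 >>> (wt x.d 120 + wt x.e 240 + wt x.f 480 + wt x.p 960 + wt x.q 1920 + wt x.s 3840)) %
    2 ^ 120) fun c => force ((tb2 >>> (wt x.a 120 + wt x.b 240 + wt x.c 480 + wt x.h 960)) % 2 ^ 120)
      fun d => mulC c d

theorem U5.ind {P : U5 → Prop} (h1 : P 1) (hm : ∀ x y, P x → P y → P (x * y)) (a : P ga) (f : P gf)
    (p : P (sU u0)) (q : P (sU w0)) (x : U5) : P x := by
  have k : ∀ x y, P x → P y → P (x * y * (x * y)) := fun x y a b => hm _ _ (hm _ _ a b) (hm _ _ a b)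
  have w : ∀ {r}, P r → ∀ b : Bool, P (bif b then r else 1) := fun h b => by cases b; exacts [h1, h]
  have s : P ⟨false, false, false, false, true, false, false, false, false, false⟩ := k _ _ p q
  have b : P ⟨false, true, false, false, false, false, false, false, false, false⟩ := k _ _ a p
  have c : P ⟨false, false, true, false, false, false, false, false, false, false⟩ := k _ _ a s
  have d : P ⟨false, false, false, false, false, false, true, false, false, false⟩ := k _ _ s f
  have e : P ⟨false, false, false, false, false, false, false, true, false, false⟩ := k _ _ q f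
  have h : P h0 := k _ _ a d
  convert hm _ _ (w f x.f) (hm _ _ (w e x.e) (hm _ _ (w d x.d) (hm _ _ (w q x.q) (hm _ _ (w s x.s)
    (hm _ _ (w p x.p) (hm _ _ (w h x.h) (hm _ _ (w c x.c) (hm _ _ (w b x.b) (w a x.a))))))))) using 1
  revert x; decide +kernel

theorem exists_U5 : ∃ f : U5 →* M24, Function.Injective f := by
  have k : ∀ r, inM24 (cU r) = true → (∀ x, cU (x * r) = force (cU x) fun c => mulC c (cU r)) →
      ∃ g : M24, Rep g.1 (cU r) ∧ ∀ x (t : M24), Rep t.1 (cU x) → Rep (t * g).1 (cU (x * r)) :=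
    fun r h1 h2 => (exists_M24 h1).imp fun g hg => ⟨hg, fun x t ht => by
      rw [h2, force_eq]; exact ht.mul hg⟩
  choose f f1 f2 using U5.ind (P := fun y => ∃ g : M24, Rep g.1 (cU y) ∧
    ∀ x (t : M24), Rep t.1 (cU x) → Rep (t * g).1 (cU (x * y)))
    ⟨1, (by decide +kernel : oneC = cU 1) ▸ rep_one, fun x t ht => by rwa [mul_one, mul_one]⟩
    (fun x y ⟨g, g1, g2⟩ ⟨l, l1, l2⟩ => ⟨g * l, l2 _ _ g1, fun z t ht => by
      rw [← mul_assoc, ← mul_assoc]; exact l2 _ _ (g2 _ _ ht)⟩)
    (k _ (by decide +kernel) (by decide +kernel)) (k _ (by decide +kernel) (by decide +kernel))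
    (k _ (by decide +kernel) (by decide +kernel)) (k _ (by decide +kernel) (by decide +kernel))
  refine ⟨MonoidHom.mk' f fun x y => Subtype.ext ((f1 _).unique (f2 _ _ _ (f1 x))),
    (injective_iff_map_eq_one _).2 fun x hx =>
      (by decide +kernel : ∀ x, (force (cU x) fun c => decide (∀ i : ℕ, i < 24 → ap c i = i)) = true → x = 1)
        x ?_⟩
  have := f1 x
  rw [show f x = 1 from hx] at this
  rw [force_eq]
  exact decide_eq_true fun i hi => (this i hi).symm.trans (idx_pt hi)

theorem iso_U5 (P : Sylow 2 M24) : Nonempty (U5 ≃* P) := by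
  obtain ⟨f, hf⟩ := exists_U5
  have h1 : Nat.card f.range = 2 ^ 10 :=
    (Nat.card_congr (MonoidHom.ofInjective hf).toEquiv).symm.trans card_U5
  have e := f.range.card_mul_index
  rw [h1, card_M24] at e
  obtain ⟨Q, hQ⟩ := IsSylowOf.exists_sylow_top (P := f.range) ⟨le_top, IsPGroup.of_card h1, by
    rw [relIndex_top_right]; omega⟩
  exact ⟨((MonoidHom.ofInjective hf).trans (MulEquiv.subgroupCongr hQ.symm)).trans (Q.equiv P)⟩

theorem iso_Q0 {Y : Type*} [Group Y] (e : U5 ≃* Y) : Nonempty (Q0 ≃* Y ⧸ center Y) :=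
  ⟨QuotientGroup.congr _ _ e (by
    ext y; obtain ⟨x, rfl⟩ := e.surjective y
    refine (mem_map_iff_mem (f := (e : U5 →* Y)) e.injective).trans ?_
    simp only [mem_center_iff, e.surjective.forall, ← map_mul, e.injective.eq_iff])⟩

universe u

variable {G : Type u} [Group G] [Finite G]

theorem exists_j (P : Sylow 2 M24) {S : Subgroup G}
    (h : Nonempty (S ≃* (P : Subgroup M24) ⧸ center (P : Subgroup M24))) :
    ∃ j : Q0 →* G, Function.Injective j ∧ j.range = S := by
  obtain ⟨e⟩ := iso_U5 P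
  obtain ⟨q⟩ := iso_Q0 e
  obtain ⟨r⟩ := h
  refine ⟨S.subtype.comp (q.trans r.symm).toMonoidHom,
    S.subtype_injective.comp (q.trans r.symm).injective, ?_⟩
  rw [MonoidHom.range_comp, MonoidHom.range_eq_top.2 (q.trans r.symm).surjective,
    ← MonoidHom.range_eq_map, range_subtype]

theorem normal_A {j : Q0 →* G} (hj : Function.Injective j) (hS : IsSylowOf 2 j.range ⊤)
    (hO : oddCore G = ⊥) : (j.comp i0).range.Normal := by
  have := (model_ga hj hS).main
  rw [show Oo (⊤ : Subgroup G) = ⊥ from (pPrimeCoreIn_top 2).trans hO, bot_sup_eq,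
    top_inf_eq] at this
  exact normalizer_eq_top_iff.1 (top_le_iff.1 this)

end M4
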