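import Cfsg.Agent.M4.GX

/-! The group of unitriangular `5 × 5` matrices over the field of two elements, modulo its centre. -/

set_option autoImplicit false
set_option linter.unusedVariables false
set_option linter.unusedSectionVars false

namespace M4

open Cfsg Subgroup FT H4 H5 GW L

/-- addition of bits -/
def xr (a b : Bool) : Bool := Bool.rec b (Bool.rec true false b) a
/-- multiplication of bits -/
def an (a b : Bool) : Bool := Bool.rec false b a

local infixl:65 " +' " => xr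
local infixl:70 " *' " => an

theorem xr_eq : ∀ a b, a +' b = a + b := by decide
theorem an_eq : ∀ a b, a *' b = a * b := by decide
theorem xr_assoc : ∀ a b c, a +' b +' c = a +' (b +' c) := by decide

/-- unitriangular `5 × 5` matrices -/
@[ext] structure U5 where
  (a b c p s q d e f h : Bool)
  deriving DecidableEq

/-- unitriangular `3 × 3` matrices -/
@[ext] structure D0 where
  (p s q : Bool)
  deriving DecidableEq

/-- the module -/
@[ext] structure V0 where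
  (a b c d e f : Bool)
  deriving DecidableEq

instance instMulU5 : Mul U5 := ⟨fun x y => ⟨x.a +' y.a, x.b +' y.b +' x.a *' y.p,
  x.c +' y.c +' x.a *' y.s +' x.b *' y.q, x.p +' y.p, x.s +' y.s +' x.p *' y.q, x.q +' y.q,
  x.d +' y.d +' x.p *' y.e +' x.s *' y.f, x.e +' y.e +' x.q *' y.f, x.f +' y.f,
  x.h +' y.h +' x.a *' y.d +' x.b *' y.e +' x.c *' y.f⟩⟩
instance instOneU5 : One U5 := ⟨⟨false, false, false, false, false, false, false, false, false, false⟩⟩
instance instInvU5 : Inv U5 := ⟨fun x => ⟨x.a, x.b +' x.a *' x.p, x.c +' x.a *' x.s +' (x.b +' x.a *' x.p) *' x.q,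
  x.p, x.s +' x.p *' x.q, x.q, x.d +' x.p *' x.e +' (x.s +' x.p *' x.q) *' x.f, x.e +' x.q *' x.f, x.f,
  x.h +' x.a *' x.d +' (x.b +' x.a *' x.p) *' x.e +' (x.c +' x.a *' x.s +' (x.b +' x.a *' x.p) *' x.q) *' x.f⟩⟩
instance decU5 (P : U5 → Prop) [DecidablePred P] : Decidable (∀ x, P x) :=
  decidable_of_iff (∀ a b c p s q d e f h, P ⟨a, b, c, p, s, q, d, e, f, h⟩)
    ⟨fun h _ => h _ _ _ _ _ _ _ _ _ _, fun h _ _ _ _ _ _ _ _ _ _ => h _⟩
theorem U5.mul_def (x y : U5) : x * y = ⟨x.a +' y.a, x.b +' y.b +' x.a *' y.p,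
  x.c +' y.c +' x.a *' y.s +' x.b *' y.q, x.p +' y.p, x.s +' y.s +' x.p *' y.q, x.q +' y.q,
  x.d +' y.d +' x.p *' y.e +' x.s *' y.f, x.e +' y.e +' x.q *' y.f, x.f +' y.f,
  x.h +' y.h +' x.a *' y.d +' x.b *' y.e +' x.c *' y.f⟩ := rfl
instance instGroupU5 : Group U5 := Group.ofLeftAxioms (fun x y z => by
  ext <;> simp only [U5.mul_def, xr_eq, an_eq] <;> ring) (by decide +kernel) (by decide +kernel)

instance instMulD0 : Mul D0 := ⟨fun x y => ⟨x.p +' y.p, x.s +' y.s +' x.p *' y.q, x.q +' y.q⟩⟩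
instance instOneD0 : One D0 := ⟨⟨false, false, false⟩⟩
instance instInvD0 : Inv D0 := ⟨fun x => ⟨x.p, x.s +' x.p *' x.q, x.q⟩⟩
instance decD0 (P : D0 → Prop) [DecidablePred P] : Decidable (∀ x, P x) :=
  decidable_of_iff (∀ a b c, P ⟨a, b, c⟩) ⟨fun h _ => h _ _ _, fun h _ _ _ => h _⟩
instance instGroupD0 : Group D0 :=
  Group.ofLeftAxioms (by decide +kernel) (by decide +kernel) (by decide +kernel)

instance instMulV0 : Mul V0 :=
  ⟨fun x y => ⟨x.a +' y.a, x.b +' y.b, x.c +' y.c, x.d +' y.d, x.e +' y.e, x.f +' y.f⟩⟩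
instance instOneV0 : One V0 := ⟨⟨false, false, false, false, false, false⟩⟩
instance instInvV0 : Inv V0 := ⟨id⟩
instance decV0 (P : V0 → Prop) [DecidablePred P] : Decidable (∀ x, P x) :=
  decidable_of_iff (∀ a b c d e f, P ⟨a, b, c, d, e, f⟩)
    ⟨fun h _ => h _ _ _ _ _ _, fun h _ _ _ _ _ _ => h _⟩
instance instCommGroupV0 : CommGroup V0 :=
  { Group.ofLeftAxioms (fun x y z => V0.ext (xr_assoc _ _ _) (xr_assoc _ _ _) (xr_assoc _ _ _)
      (xr_assoc _ _ _) (xr_assoc _ _ _) (xr_assoc _ _ _)) (by decide +kernel)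
      (by decide +kernel) with mul_comm := by decide +kernel }
instance instFintypeV0 : Fintype V0 := Fintype.ofEquiv (Bool × Bool × Bool × Bool × Bool × Bool)
  ⟨fun x => ⟨x.1, x.2.1, x.2.2.1, x.2.2.2.1, x.2.2.2.2.1, x.2.2.2.2.2⟩,
    fun x => (x.a, x.b, x.c, x.d, x.e, x.f), fun _ => rfl, fun _ => rfl⟩
instance instFintypeD0 : Fintype D0 := Fintype.ofEquiv (Bool × Bool × Bool)
  ⟨fun x => ⟨x.1, x.2.1, x.2.2⟩, fun x => (x.p, x.s, x.q), fun _ => rfl, fun _ => rfl⟩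

/-- coordinates -/
def eqU : (V0 × D0) × Bool ≃ U5 where
  toFun x := ⟨x.1.1.a, x.1.1.b, x.1.1.c, x.1.2.p, x.1.2.s, x.1.2.q, x.1.1.d, x.1.1.e, x.1.1.f, x.2⟩
  invFun x := ((⟨x.a, x.b, x.c, x.d, x.e, x.f⟩, ⟨x.p, x.s, x.q⟩), x.h)
  left_inv _ := rfl
  right_inv _ := rfl

instance instFiniteU5 : Finite U5 := Finite.of_equiv _ eqU

theorem card_V0 : Nat.card V0 = 64 := by rw [Nat.card_eq_fintype_card]; decide +kernel
theorem card_D0 : Nat.card D0 = 8 := by rw [Nat.card_eq_fintype_card]; decide +kernel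
theorem card_U5 : Nat.card U5 = 2 ^ 10 := by
  rw [← Nat.card_congr eqU, Nat.card_prod, Nat.card_prod, card_V0, card_D0]; simp

/-- the action -/
def ac (x : D0) (y : V0) : V0 := ⟨y.a, y.b +' y.a *' x.p, y.c +' y.a *' x.s +' (y.b +' y.a *' x.p) *' x.q,
  y.d +' x.p *' y.e +' x.s *' y.f, y.e +' x.q *' y.f, y.f⟩

def h0 : U5 := ⟨false, false, false, false, false, false, false, false, false, true⟩
def iU (y : V0) : U5 := ⟨y.a, y.b, y.c, false, false, false, y.d, y.e, y.f, false⟩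
def sU : D0 →* U5 := MonoidHom.mk' (fun x => ⟨false, false, false, x.p, x.s, x.q, false, false, false, false⟩) (by decide +kernel)

def ga : U5 := iU ⟨true, false, false, false, false, false⟩
def gf : U5 := iU ⟨false, false, false, false, false, true⟩
def u0 : D0 := ⟨true, false, false⟩
def z0 : D0 := ⟨false, true, false⟩
def w0 : D0 := ⟨false, false, true⟩

theorem mem_Z {x : U5} : x ∈ center U5 ↔ x = 1 ∨ x = h0 := by
  rw [mem_center_iff]
  refine ⟨fun h => (by decide +kernel : ∀ x : U5, ga * x = x * ga → gf * x = x * gf →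
    sU u0 * x = x * sU u0 → sU w0 * x = x * sU w0 → x = 1 ∨ x = h0) x (h _) (h _) (h _) (h _), ?_⟩
  rintro (rfl | rfl)
  · simp
  · decide +kernel

/-- the quotient by the centre -/
abbrev Q0 : Type := U5 ⧸ center U5

theorem mk_eq (x : U5) : (({x with h := false} : U5) : Q0) = x :=
  QuotientGroup.eq.2 (mem_Z.2 (by revert x; decide +kernel))

def i0 : V0 →* Q0 := MonoidHom.mk' (fun y => iU y) fun x y =>
  (congrArg _ (by
    have : (false : Bool) = 0 := rfl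
    ext <;> first | rfl | (simp [iU, U5.mul_def, xr_eq, an_eq, this]; exact xr_eq _ _))).trans
    (mk_eq (iU x * iU y))
def s0 : D0 →* Q0 := (QuotientGroup.mk' _).comp sU

theorem i0_inj : Function.Injective i0 := (injective_iff_map_eq_one _).2 fun a h => by
  have := mem_Z.1 ((QuotientGroup.eq_one_iff _).1 h)
  clear h; revert a; decide +kernel

theorem i0_ac (d : D0) (a : V0) : i0 (ac d a) = s0 d * i0 a * (s0 d)⁻¹ :=
  congrArg QuotientGroup.mk (show iU (ac d a) = sU d * iU a * (sU d)⁻¹ by revert d a; decide +kernel)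

theorem Q0_eq (x : Q0) : ∃ a d, x = i0 a * s0 d := by
  obtain ⟨x, rfl⟩ := QuotientGroup.mk_surjective x
  exact ⟨⟨x.a, x.b +' x.a *' x.p, x.c +' x.a *' x.s +' (x.b +' x.a *' x.p) *' x.q, x.d, x.e, x.f⟩,
    ⟨x.p, x.s, x.q⟩, (mk_eq x).symm.trans (congrArg QuotientGroup.mk (show _ = iU _ * sU _ by
      revert x; decide +kernel))⟩

theorem card_Z : Nat.card (center U5) = 2 := by
  rw [show center U5 = zpowers h0 from le_antisymm (fun x hx => (mem_Z.1 hx).elim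
    (fun e => e ▸ one_mem _) fun e => e ▸ mem_zpowers _) (zpowers_le.2 (mem_Z.2 (Or.inr rfl))),
    Nat.card_zpowers, W.o2 (by decide +kernel) (by decide +kernel)]

theorem card_Q0 : Nat.card Q0 = 2 ^ 9 := by
  have e := card_eq_card_quotient_mul_card_subgroup (center U5)
  rw [card_U5, card_Z] at e
  exact Nat.eq_of_mul_eq_mul_right two_pos e.symm

instance decExV0 (P : V0 → Prop) [DecidablePred P] : Decidable (∃ x, P x) :=
  decidable_of_iff (∃ a b c d e f, P ⟨a, b, c, d, e, f⟩)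
    ⟨fun ⟨_, _, _, _, _, _, h⟩ => ⟨_, h⟩, fun ⟨_, h⟩ => ⟨_, _, _, _, _, _, h⟩⟩

/-- commutators -/
abbrev cmb (d : D0) (c : V0) : Prop := ∃ a, ac d a * a⁻¹ = c

theorem cardV (Y : Subgroup V0) (p : V0 → Prop) [DecidablePred p] (h : ∀ a, a ∈ Y ↔ p a) :
    Nat.card Y = (Finset.univ.filter p).card := Nat.subtype_card _ (by simp [h])

theorem xd0 {X : Type*} [Group X] [Finite X] [MulDistribMulAction X V0] {ψ : D0 →* X}
    (hψ : ∀ d a, ψ d • a = ac d a) (fa : ∀ x : X, (∀ a : V0, x • a = a) → x = 1)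
    (syl : IsSylowOf 2 ψ.range ⊤) : XD ψ.range (ψ z0) (ψ u0) (ψ w0)
      (⟨false, false, false, true, false, false⟩ : V0) ⟨false, false, true, false, false, false⟩ := by
  have inj : Function.Injective ψ := (injective_iff_map_eq_one _).2 fun d e =>
    (by decide +kernel : ∀ d, (∀ a, ac d a = a) → d = 1) d fun a => by rw [← hψ, e, one_smul]
  have fx : ∀ d a, a ∈ Fx V0 (ψ d) ↔ ac d a = a := fun d a => by rw [mem_Fx, hψ]
  have cm : ∀ d c, c ∈ Cm V0 (ψ d) ↔ cmb d c := fun d c => by simp only [mem_Cm, hψ]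
  have ce : ∀ d t, ψ d ∈ Cen1 (ψ t) ↔ d * t = t * d := fun d t => by
    rw [c1, ← map_mul, ← map_mul, inj.eq_iff]
  have n1 : ∀ d, ψ d = 1 ↔ d = 1 := fun d => map_eq_one_iff _ inj
  have o2 : ∀ d, d * d = 1 → d ≠ 1 → orderOf (ψ d) = 2 := fun d a b =>
    W.o2 (by rw [← map_mul, a, map_one]) (mt (n1 d).1 b)
  have hf : ∀ (u u' : D0) (v : V0), u * u = 1 ∧ u ≠ 1 ∧ z0 * u = u * z0 ∧ u ≠ z0 ∧
      ¬ (u' = 1 ∨ u' = z0 ∨ u' = u ∨ u' = z0 * u) ∧ u' * u * u'⁻¹ = z0 * u ∧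
      (∀ d, d * z0 * d⁻¹ = z0 ∧ (d * u * d⁻¹ = u ∨ d * u * d⁻¹ = z0 * u)) ∧ v ≠ 1 ∧
      cmb z0 v ∧ cmb u v ∧ cmb (z0 * u) v ∧ (∀ c, cmb z0 c → cmb u c → c = 1 ∨ c = v) ∧
      (∀ c, ac z0 c = c → ac u c = c → cmb z0 c ∨ cmb u c ∨ cmb (z0 * u) c) →
      Hf ψ.range (ψ z0) (ψ u) (ψ u') v ∧ ∀ d, (d = 1 ∨ d = z0 ∨ d = u ∨ d = z0 * u) →
        ψ d ∈ V4 (ψ z0) (ψ u) := by
    rintro u u' v ⟨k1, k2, k3, k4, k5, k6, k7, k8, k9, k10, k11, k12, k13⟩
    have f : F4 (ψ z0) (ψ u) := ⟨o2 _ (by decide) (by decide), o2 _ k1 k2,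
      by rw [← map_mul, k3, map_mul], inj.ne k4⟩
    have mV : ∀ d, ψ d ∈ V4 (ψ z0) (ψ u) ↔ d = 1 ∨ d = z0 ∨ d = u ∨ d = z0 * u := fun d => by
      simp only [f.mem_V, ← map_mul, inj.eq_iff, n1]
    refine ⟨⟨f, ⟨_, rfl⟩, mt (mV _).1 k5, by rw [← map_inv, ← map_mul, ← map_mul, k6, map_mul], ?_,
      k8, fun s hs s1 => ?_, fun c a b => k12 c ((cm _ _).1 a) ((cm _ _).1 b), fun c a b => ?_⟩,
      fun d => (mV d).2⟩
    · rintro _ ⟨d, rfl⟩
      refine mem_normalizer_of_conjS_le ?_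
      simp only [conj_V, ← map_inv, ← map_mul, (k7 d).1]
      exact V_le (t_V _ _) ((mV _).2 (Or.inr (Or.inr (k7 d).2)))
    · rcases f.mem_V.1 hs with rfl | rfl | rfl | rfl
      exacts [(s1 rfl).elim, (cm _ _).2 k9, (cm _ _).2 k10, map_mul ψ _ _ ▸ (cm _ _).2 k11]
    · simpa only [← map_mul, cm] using k13 c ((fx _ _).1 a) ((fx _ _).1 b)
  obtain ⟨h1, m1⟩ := hf u0 w0 ⟨false, false, false, true, false, false⟩ (by decide +kernel)
  obtain ⟨h2, m2⟩ := hf w0 u0 ⟨false, false, true, false, false, false⟩ (by decide +kernel)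
  refine ⟨by decide +kernel, card_V0, fa, ?_, syl, (Nat.card_congr
    (MonoidHom.ofInjective inj).toEquiv).symm.trans card_D0, ⟨_, rfl⟩, ?_, ?_, h1, h2, by decide,
    ?_, ?_, fun c a b => (cm _ _).2 ((by decide +kernel : ∀ c, ac u0 c = c → ac w0 c = c → cmb z0 c)
      c ((fx _ _).1 a) ((fx _ _).1 b)), ?_⟩
  · obtain ⟨S, hS⟩ := syl.exists_sylow_top
    have k : ∀ d, ψ d ∉ zpowers (ψ (u0 * w0)) → ¬ ∃ i : Fin 4, d = (u0 * w0) ^ i.val :=
      fun d n ⟨i, e⟩ => n (by rw [e, map_pow]; exact npow_mem_zpowers _ _)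
    refine D2_of_sylow S (x := ψ (u0 * w0)) ?_
    rw [hS]
    rintro _ ⟨d, rfl⟩ n
    obtain ⟨a, b, c⟩ := (by decide +kernel : ∀ d : D0, (¬ ∃ i : Fin 4, d = (u0 * w0) ^ i.val) →
      d * d = 1 ∧ d * (u0 * w0) * d⁻¹ = (u0 * w0)⁻¹ ∧ ∀ e : D0, (¬ ∃ i : Fin 4,
        e = (u0 * w0) ^ i.val) → ∃ i : Fin 4, d * e = (u0 * w0) ^ i.val) d (k d n)
    refine ⟨by rw [← map_mul, a, map_one], by rw [← map_inv, ← map_mul, ← map_mul, b, map_inv], ?_⟩
    rintro _ ⟨e, rfl⟩ n'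
    rw [← map_mul]
    exact by_contra fun q => k _ q (c e (k e n'))
  · rintro _ ⟨d, rfl⟩
    exact (ce _ _).2 (by revert d; decide +kernel)
  · rintro _ ⟨d, rfl⟩ e
    rw [← map_mul, n1] at e
    exact Or.imp (m1 d) (m2 d) (by revert d; decide +kernel)
  · rintro _ ⟨d, rfl⟩ e e1
    rw [← map_mul, n1] at e
    rw [cardV _ _ (fx d)]
    rw [Ne, n1] at e1
    revert d; decide +kernel
  · rintro _ ⟨t, rfl⟩ _ ⟨d, rfl⟩ e e1 e2
    rw [← map_mul, n1] at e
    obtain ⟨a, b⟩ := (by decide +kernel : ∀ t d : D0, t * t = 1 → t ≠ 1 → d * t = t * d →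
      (∀ a, ac d (ac t a * a⁻¹) = ac t a * a⁻¹) ∧ ∀ a, ac t a = a → cmb t (ac d a * a⁻¹)) t d e
      (mt (n1 t).2 e1) ((ce _ _).1 e2)
    refine ⟨e2, fun c hc => ?_, fun x hx => (cm _ _).2 (hψ d x ▸ b x ((fx _ _).1 hx))⟩
    obtain ⟨x, rfl⟩ := (cm _ _).1 hc
    rw [hψ, a]
  · rintro _ ⟨s, rfl⟩ _ ⟨t, rfl⟩ e1 e2 e3
    rw [cardV _ (fun a => ac s a = a ∧ ac t a = a) fun a => and_congr (fx s a) (fx t a), ce]
    rw [Ne, n1] at e1 e2
    rw [Ne, inj.eq_iff] at e3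
    revert s t; decide +kernel

universe u

variable {G : Type u} [Group G] [Finite G] {j : Q0 →* G}

theorem j_nor : j.range ≤ Nor (j.comp i0).range := by
  rintro _ ⟨x, rfl⟩
  obtain ⟨a, d, rfl⟩ := Q0_eq x
  rw [map_mul]
  refine mul_mem (le_normalizer ⟨a, rfl⟩) (mnor ?_)
  rintro _ ⟨b, rfl⟩
  exact ⟨ac d b, by simp [i0_ac]⟩

theorem model (hj : Function.Injective j) (hS : IsSylowOf 2 j.range ⊤) :
    ∃ (K : Subgroup (MulAut V0)) (π : Nor (j.comp i0).range →* K) (D : Subgroup K) (z u u' : K)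
      (v v' : V0), GX (j.comp i0).range (j.comp i0) π D z u u' v v' := by
  have hi : Function.Injective (j.comp i0) := hj.comp i0_inj
  let π := ((MulAut.congr (MonoidHom.ofInjective hi).symm).toMonoidHom.comp
    (normalizerMonoidHom (j.comp i0).range)).rangeRestrict
  have e : ∀ (n : Nor (j.comp i0).range) (a : V0),
      j.comp i0 (π n • a) = n * j.comp i0 a * (n : G)⁻¹ := fun n a =>
    MonoidHom.apply_ofInjective_symm hi _
  let ψ := π.comp ((j.comp s0).codRestrict _ fun d => j_nor ⟨s0 d, rfl⟩)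
  have hψ : ∀ d a, ψ d • a = ac d a := fun d a => hi ((e _ a).trans (by simp [i0_ac]; rfl))
  have fa : ∀ {K : Subgroup (MulAut V0)} (x : K), (∀ a : V0, x • a = a) → x = 1 :=
    fun x hx => Subtype.ext (MulEquiv.ext hx)
  have e1 : ∀ a, π ⟨j (i0 a), j_nor ⟨_, rfl⟩⟩ = 1 := fun a => fa _ fun b => hi ((e _ b).trans (by
    show j (i0 a) * j (i0 b) * (j (i0 a))⁻¹ = j (i0 b)
    rw [← map_mul, ← map_mul, mul_comm, map_mul, map_mul, mul_inv_cancel_right]))
  have s := hS.of_le j_nor le_top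
  have sj : Function.Surjective π := MonoidHom.rangeRestrict_surjective _
  refine ⟨_, π, _, _, _, _, _, _, xd0 hψ fa ?_, hi, rfl, sj, e, fun x hx p => ?_⟩
  · have := s.im (f := π) le_rfl
    rw [im_self sj] at this
    convert this using 1
    refine le_antisymm ?_ ?_
    · rintro _ ⟨d, rfl⟩
      exact mem_im_of_mem _ ⟨_, rfl⟩
    · intro y hy
      obtain ⟨⟨_, hn⟩, ⟨x, rfl⟩, rfl⟩ := mem_im.1 hy
      obtain ⟨a, d, rfl⟩ := Q0_eq x
      exact ⟨d, by
        rw [← one_mul (ψ d), ← e1 a]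
        exact (map_mul π _ _).symm.trans (congrArg π (Subtype.ext (map_mul j _ _).symm))⟩
  · obtain ⟨n, hn, e2⟩ := s.exists_conj_le p.isPGroup_zpowers (zpowers_le.2 (cnor le_rfl hx))
    obtain ⟨y, hy⟩ := e2 (conj_mem_conjS (mem_zpowers x))
    obtain ⟨a, d, rfl⟩ := Q0_eq y
    have c := cmem (ncen le_rfl hn) hx
    rw [← hy] at c
    have : d = 1 := (by decide +kernel : ∀ d, (∀ a, ac d a = a) → d = 1) d fun b => by
      have := hj ((map_mul j _ _).trans ((cen.1 c _ ⟨b, rfl⟩).trans (map_mul j _ _).symm))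
      refine i0_inj (mul_left_cancel (a := i0 a) ?_)
      rw [i0_ac, ← mul_assoc, ← mul_assoc, this, ← mul_assoc, mul_inv_cancel_right, ← map_mul,
        mul_comm, map_mul]
    exact mem_of_eq (cmem' hn ⟨a, rfl⟩) (by
      rw [this, map_one, mul_one] at hy
      rw [show j.comp i0 a = _ from hy]; group)

theorem model_ga (hj : Function.Injective j) (hS : IsSylowOf 2 j.range ⊤) :
    GA' (j.comp i0).range := fun g => by
  have k : ∀ {Y : Type} [Group Y] (f : Y →* G),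
      ((MulAut.conj g).toMonoidHom.comp f).range = conjS g f.range :=
    fun f => MonoidHom.range_comp _ _
  have s : IsSylowOf 2 ((MulAut.conj g).toMonoidHom.comp j).range ⊤ := by
    have := hS.map (MulAut.conj g).toMonoidHom
    rwa [map_top_of_surjective _ (MulAut.conj g).surjective, ← MonoidHom.range_comp] at this
  obtain ⟨K, π, D, z, u, u', v, v', h⟩ := model ((MulAut.conj g).injective.comp hj) s
  rw [← k]
  exact h.ga s j_nor

theorem model_uniq (hj : Function.Injective j) (hS : IsSylowOf 2 j.range ⊤) {B : Subgroup G}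
    (h1 : B ≤ j.range) (h2 : IsMulCommutative B) (h3 : Nat.card B = 64) :
    B = (j.comp i0).range := by
  obtain ⟨K, π, D, z, u, u', v, v', h⟩ := model hj hS
  exact h.uniq (h1.trans j_nor) h2 h3

end M4
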